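import Groth.Agent.ResPropLib.Affine
import Groth.Agent.RefX.QCoh
import Groth.Agent.HomShX.Basic
import Groth.Agent.H23.TensorDesc
import Groth.Agent.PerfGen7.RpushRelTor
import Groth.Agent.KFlatLib.Perfect.Tensor
import Groth.Agent.ResPerf7.Main
import Groth.Agent.QCoh.SerreFT
import Groth.Agent.KFlatLib.Scheme.Exact
import Groth.Agent.Algz7.Restrict

/-! # Box product surjections from the resolution property -/

set_option autoImplicit false
set_option linter.style.haveILetI false
set_option backward.isDefEq.respectTransparency false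
set_option backward.isDefEq.respectTransparency.types false
set_option maxHeartbeats 1000000

universe u

open CategoryTheory CategoryTheory.Limits AlgebraicGeometry TopologicalSpace Opposite

noncomputable section

namespace Groth.Agent.BoxSurj

open Groth.Agent.QCoh Groth.Agent.QCoh.SerreFT
open RefHull (stalkMapₗ stalkMapₗ_germ)

variable {Z X : Scheme.{u}}

/-- On an affine scheme over `X`, bundles of `X` pull back to enough bundles. -/
theorem exists_pullback_epi (f : Z ⟶ X) [IsAffineHom f] [CompactSpace X] [QuasiSeparatedSpace X]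
    (hX : PerfAux.HasResolutionProperty X) (M : Z.Modules) (hM : Coh.IsQCoh M) (hft : CohB1.IsFT M) :
    ∃ (E : X.Modules) (ψ : (Scheme.Modules.pullback f).obj E ⟶ M), FlatMod.IsFinLocFree E ∧ Epi ψ := by
  classical
  obtain ⟨F, hF⟩ := isCompact_univ.elim_finite_subcover (fun V : X.affineOpens => (V.1 : Set X))
    (fun V => V.1.2) fun y _ => by
      obtain ⟨V, hV, hyV⟩ := exists_affine_mem y
      exact Set.mem_iUnion.2 ⟨⟨V, hV⟩, hyV⟩
  let W : F → Z.Opens := fun k => f ⁻¹ᵁ k.1.1
  have hW : ∀ k, IsAffineOpen (W k) := fun k => k.1.2.preimage f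
  choose T hT using fun k => (finite_of_isFT hM hft (hW k)).fg_top
  have hP : Coh.IsQCoh ((Scheme.Modules.pushforward f).obj M) := isQCoh_pushforward f hM
  let β := Σ k : F, T k
  obtain ⟨A, j, -, hA, hAt, hs⟩ := exists_ft_containing hP (fun m : β => m.1.1.1) (fun m => m.1.1.2)
    (fun m : β => (show Γ((Scheme.Modules.pushforward f).obj M, m.1.1.1) from (m.2.1 : Γ(M, W m.1))))
  obtain ⟨E, π, hE, hπ⟩ := hX A hA hAt
  let ψ := ((Scheme.Modules.pullbackPushforwardAdjunction f).homEquiv E M).symm (π ≫ j)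
  refine ⟨E, ψ, hE, ?_⟩
  have hEq : Coh.IsQCoh E := isQCoh_of_isFinLocFree hE
  have hQ := isQCoh_cokernel (isQCoh_pullback f hEq) hM ψ
  haveI := hπ
  refine Preadditive.epi_of_cokernel_zero
    ((isZero_of_cover hQ W hW ?_ fun k => subsingleton_of_forall_eq 0 fun q => ?_).eq_of_tgt _ _)
  · intro x
    obtain ⟨V, hV, hxV⟩ := Set.mem_iUnion₂.1 (hF (Set.mem_univ (f x)))
    exact ⟨⟨V, hV⟩, hxV⟩
  · obtain ⟨m, rfl⟩ := app_surjective_of_epi hM hQ (cokernel.π ψ) (hW k) q
    show appLin (cokernel.π ψ) (W k) m = 0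
    have hm : m ∈ Submodule.span Γ(Z, W k) (T k : Set Γ(M, W k)) := by rw [hT k]; trivial
    refine (Submodule.span_le (p := LinearMap.ker (appLin (cokernel.π ψ) (W k)))).2 ?_ hm
    intro t ht
    obtain ⟨w, hw⟩ := hs ⟨k, ⟨t, ht⟩⟩
    obtain ⟨e, he⟩ := app_surjective_of_epi hEq hA π k.1.2 w
    have h : ψ.app (W k) (pullSec f E (le_refl _) e) = t := by
      rw [ResPropLib.homEquiv_symm_app_pullSec]
      show j.app k.1.1 (π.app k.1.1 e) = _
      rw [he, hw]
    show (cokernel.π ψ).app (W k) t = 0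
    rw [← h]
    exact congr(($(cokernel.condition ψ)).app (W k) (pullSec f E (le_refl _) e))

lemma surjective_stalk_of_epi {M N : Z.Modules} (φ : M ⟶ N) [Epi φ] (z : Z) :
    Function.Surjective (stalkMapₗ φ z) := by
  haveI : PreservesFiniteColimits (KFlatLib.stalkAb z) := ⟨fun _ _ _ => inferInstance⟩
  have h : Epi ((KFlatLib.stalkAb z).map φ) := inferInstance
  exact (AddCommGrpCat.epi_iff_surjective _).1 h

/-- A morphism on an open subscheme gives a section of the sheaf of homomorphisms, whose values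
are surjective where the morphism is an epimorphism. -/
theorem exists_sect {A F : Z.Modules} (W : Z.Opens) (β : A.restrict W.ι ⟶ F.restrict W.ι) [Epi β] :
    ∃ g : Γ(RefHull.homSh A F, W), ∀ y : W, Function.Surjective (g.1 y) := by
  let eA : ∀ y : (W : Scheme.{u}), (A.restrict W.ι).presheaf.stalk y ≃+ A.presheaf.stalk y.1 := fun y =>
    ((Scheme.Modules.restrictStalkNatIso W.ι y).app A).addCommGroupIsoToAddEquiv
  let eF : ∀ y : (W : Scheme.{u}), (F.restrict W.ι).presheaf.stalk y ≃+ F.presheaf.stalk y.1 := fun y =>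
    ((Scheme.Modules.restrictStalkNatIso W.ι y).app F).addCommGroupIsoToAddEquiv
  have hA : ∀ (y : (W : Scheme.{u})) (a : Z.presheaf.stalk y.1) (v : A.presheaf.stalk y.1),
      (eA y).symm (a • v) = (W.ι.stalkMap y).hom a • (eA y).symm v := by
    intro y a v
    apply (eA y).injective
    rw [AddEquiv.apply_symm_apply]
    refine Eq.trans ?_ (PerfGen7.semilinear_restrictStalk W.ι A y a ((eA y).symm v)).symm
    exact congrArg (a • ·) ((eA y).apply_symm_apply v).symm
  let g : ∀ y : (W : Scheme.{u}), RefHull.StalkHom A F y.1 := fun y =>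
    { toFun := fun v => eF y (stalkMapₗ β y ((eA y).symm v))
      map_add' := fun a b => by rw [map_add, map_add, map_add]
      map_smul' := fun a v => by
        rw [hA, map_smul]
        exact PerfGen7.semilinear_restrictStalk W.ι F y a _ }
  have hgerm : ∀ (O : (W : Scheme.{u}).Opens) (y : (W : Scheme.{u})) (hy : y ∈ O) (m : Γ(A, W.ι ''ᵁ O)),
      g y (A.presheaf.germ (W.ι ''ᵁ O) y.1 ⟨y, hy, rfl⟩ m) =
        F.presheaf.germ (W.ι ''ᵁ O) y.1 ⟨y, hy, rfl⟩ (β.app O m) := by
    intro O y hy m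
    have h1 : (eA y).symm (A.presheaf.germ (W.ι ''ᵁ O) y.1 ⟨y, hy, rfl⟩ m) =
        (A.restrict W.ι).presheaf.germ O y hy m := by
      apply (eA y).injective
      rw [AddEquiv.apply_symm_apply]
      exact (ConcreteCategory.congr_hom (Scheme.Modules.germ_restrictStalkNatIso_hom_app W.ι y A hy) m).symm
    show eF y (stalkMapₗ β y ((eA y).symm _)) = _
    rw [h1, stalkMapₗ_germ]
    exact ConcreteCategory.congr_hom (Scheme.Modules.germ_restrictStalkNatIso_hom_app W.ι y F hy) _
  refine ⟨⟨fun y => g y, fun V i m y => ?_⟩, fun y => ?_⟩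
  · have hV : W.ι ''ᵁ (W.ι ⁻¹ᵁ V) = V := by
      rw [Scheme.Hom.image_preimage_eq_opensRange_inf, Scheme.Opens.opensRange_ι, inf_eq_right]
      exact i.le
    refine ⟨W.ι ''ᵁ (W.ι ⁻¹ᵁ V), by rw [hV]; exact y.2, homOfLE hV.le,
      β.app (W.ι ⁻¹ᵁ V) (A.presheaf.map (homOfLE hV.le).op m), fun z => ?_⟩
    have hz : z.1 ∈ V := hV.le z.2
    have := hgerm (W.ι ⁻¹ᵁ V) ⟨z.1, i.le hz⟩ hz (A.presheaf.map (homOfLE hV.le).op m)
    rw [TopCat.Presheaf.germ_res_apply] at this
    exact this
  · exact (eF y).surjective.comp ((surjective_stalk_of_epi β y).comp (eA y).symm.surjective)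

/-- The pairing given by a map into the sheaf of homomorphisms. -/
def pairing {A B F : Z.Modules} (φ : B ⟶ RefHull.homSh A F) : H23.TensorDesc.Bilin A B F where
  b U a c := RefX.app (le_refl U) (φ.app U c) a
  add_left U a a' c := RefX.app_add _ _ a a'
  smul_left U r a c := RefX.app_smul _ _ r a
  add_right U a c c' := ZClosLib.section_ext F _ _ fun y hy => by
    rw [map_add (φ.app U).hom, map_add, RefX.germ_app, RefX.germ_app, RefX.germ_app]
    rfl
  smul_right U r a c := ZClosLib.section_ext F _ _ fun y hy => by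
    erw [Scheme.Modules.Hom.app_smul]
    rw [QCoh.germ_smul', RefX.germ_app, RefX.germ_app]
    rfl
  res {U V} h a c := ZClosLib.section_ext F _ _ fun y hy => by
    rw [TopCat.Presheaf.germ_res_apply, RefX.germ_app, RefX.germ_app, TopCat.Presheaf.germ_res_apply,
      map_app_comm φ (homOfLE h) c]
    rfl

/-- The image of the pairing at a point contains the values of the sections hit. -/
theorem surjective_stalk_pairing {A B F : Z.Modules} (φ : B ⟶ RefHull.homSh A F) {W : Z.Opens}
    (g : Γ(RefHull.homSh A F, W)) (c : Γ(B, W)) (hc : φ.app W c = g) (y : W)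
    (hg : Function.Surjective (g.1 y)) :
    Function.Surjective (stalkMapₗ (H23.TensorDesc.desc (pairing φ)) y.1) := by
  intro v
  obtain ⟨u, rfl⟩ := hg v
  obtain ⟨O, hyO, a, rfl⟩ := A.presheaf.exists_germ_eq u
  let O' := O ⊓ W
  let a' := A.presheaf.map (homOfLE (inf_le_left : O' ≤ O)).op a
  let c' := B.presheaf.map (homOfLE (inf_le_right : O' ≤ W)).op c
  refine ⟨(CohB1.tensorMod A B).presheaf.germ O' y.1 ⟨hyO, y.2⟩ (SecTwist.tmul A B O' a' c'), ?_⟩
  rw [stalkMapₗ_germ]
  erw [H23.TensorDesc.desc_tmul]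
  show F.presheaf.germ O' y.1 _ (RefX.app (le_refl O') (φ.app O' c') a') = _
  rw [RefX.germ_app]
  rw [show φ.app O' c' = (RefHull.homSh A F).presheaf.map (homOfLE (inf_le_right : O' ≤ W)).op g by
    rw [← hc]; exact map_app_comm φ _ c]
  show g.1 _ (A.presheaf.germ O' y.1 _ a') = _
  rw [TopCat.Presheaf.germ_res_apply]

lemma exists_common_bundle {ι : Type u} [Finite ι] {Y : Scheme.{u}} (p : Z ⟶ Y) (F : Z.Modules)
    (W : ι → Z.Opens)
    (h : ∀ i, ∃ (E : Y.Modules) (β : ((Scheme.Modules.pullback p).obj E).restrict (W i).ι ⟶ F.restrict (W i).ι),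
      FlatMod.IsFinLocFree E ∧ Epi β) :
    ∃ (E : Y.Modules), FlatMod.IsFinLocFree E ∧
      ∀ i, ∃ β : ((Scheme.Modules.pullback p).obj E).restrict (W i).ι ⟶ F.restrict (W i).ι, Epi β := by
  classical
  haveI := Fintype.ofFinite ι
  suffices h' : ∀ s : Finset ι, ∃ (E : Y.Modules), FlatMod.IsFinLocFree E ∧
      ∀ i ∈ s, ∃ β : ((Scheme.Modules.pullback p).obj E).restrict (W i).ι ⟶ F.restrict (W i).ι, Epi β by
    obtain ⟨E, hE, hβ⟩ := h' Finset.univ
    exact ⟨E, hE, fun i => hβ i (Finset.mem_univ i)⟩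
  intro s
  induction s using Finset.induction_on with
  | empty =>
    obtain ⟨Z₀, hZ₀⟩ := HasZeroObject.zero (C := Y.Modules)
    exact ⟨Z₀, KFlatLib.isFinLocFree_of_isZero hZ₀, fun i hi => absurd hi (Finset.notMem_empty i)⟩
  | insert k s hk ih =>
    obtain ⟨E, hE, hβ⟩ := ih
    obtain ⟨E', β', hE', hβ'⟩ := h k
    refine ⟨E ⊞ E', ResPerf7.isFinLocFree_biprod' hE hE', fun i hi => ?_⟩
    let R := fun i => Scheme.Modules.pullback p ⋙ Scheme.Modules.restrictFunctor (W i).ι
    rcases Finset.mem_insert.1 hi with rfl | hi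
    · haveI : IsSplitEpi ((R i).map (biprod.snd : E ⊞ E' ⟶ E')) :=
        inferInstance
      haveI := hβ'
      exact ⟨(R i).map (biprod.snd : E ⊞ E' ⟶ E') ≫ β', epi_comp _ β'⟩
    · obtain ⟨β, hb⟩ := hβ i hi
      haveI : IsSplitEpi ((R i).map (biprod.fst : E ⊞ E' ⟶ E)) :=
        inferInstance
      exact ⟨(R i).map (biprod.fst : E ⊞ E' ⟶ E) ≫ β, epi_comp _ β⟩

/-- The box product surjection. -/
theorem exists_box_epi {S X Y : Scheme.{u}} [IsAffine S] (f : X ⟶ S) (g : Y ⟶ S)
    [CompactSpace X] [QuasiSeparatedSpace X] [CompactSpace Y] [QuasiSeparatedSpace Y]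
    (hX : PerfAux.HasResolutionProperty X) (hY : PerfAux.HasResolutionProperty Y)
    (F : (pullback f g).Modules) (hF : Coh.IsQCoh F) (hF' : CohB1.IsFT F) :
    ∃ (E : X.Modules) (G : Y.Modules), FlatMod.IsFinLocFree E ∧ FlatMod.IsFinLocFree G ∧
      ∃ π : CohB1.tensorMod ((Scheme.Modules.pullback (pullback.fst f g)).obj E)
          ((Scheme.Modules.pullback (pullback.snd f g)).obj G) ⟶ F, Epi π := by
  classical
  let p := pullback.fst f g
  let q := pullback.snd f g
  haveI : QuasiCompact f := (HasAffineProperty.iff_of_isAffine (P := @QuasiCompact)).2 inferInstance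
  haveI : QuasiCompact g := (HasAffineProperty.iff_of_isAffine (P := @QuasiCompact)).2 inferInstance
  haveI : QuasiSeparated f := (HasAffineProperty.iff_of_isAffine (P := @QuasiSeparated)).2 inferInstance
  haveI : QuasiSeparated g := (HasAffineProperty.iff_of_isAffine (P := @QuasiSeparated)).2 inferInstance
  obtain ⟨t, ht⟩ := isCompact_univ.elim_finite_subcover (fun V : Y.affineOpens => (V.1 : Set Y))
    (fun V => V.1.2) fun y _ => by
      obtain ⟨V, hV, hyV⟩ := exists_affine_mem y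
      exact Set.mem_iUnion.2 ⟨⟨V, hV⟩, hyV⟩
  let W : t → (pullback f g).Opens := fun i => q ⁻¹ᵁ i.1.1
  have hstep : ∀ i, ∃ (E : X.Modules) (β : ((Scheme.Modules.pullback p).obj E).restrict (W i).ι ⟶ F.restrict (W i).ι),
      FlatMod.IsFinLocFree E ∧ Epi β := by
    intro i
    haveI : IsAffine (i.1.1 : Scheme.{u}) := i.1.2
    haveI : IsAffineHom (i.1.1.ι ≫ g) := isAffineHom_of_isAffine _
    haveI : IsAffineHom ((W i).ι ≫ p) :=
      MorphismProperty.of_isPullback (P := @IsAffineHom)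
        ((isPullback_morphismRestrict q i.1.1).paste_vert (IsPullback.of_hasPullback f g).flip)
        (inferInstance : IsAffineHom (i.1.1.ι ≫ g))
    obtain ⟨E, ψ, hE, hψ⟩ := exists_pullback_epi ((W i).ι ≫ p) hX _ (isQCoh_restrict (W i).ι hF)
      (Algz7.isFT_restrict (W i).ι hF hF')
    let e := (Scheme.Modules.restrictFunctorIsoPullback (W i).ι).app ((Scheme.Modules.pullback p).obj E) ≪≫
      (Scheme.Modules.pullbackComp (W i).ι p).app E
    exact ⟨E, e.hom ≫ ψ, hE, epi_comp _ _⟩
  obtain ⟨E, hE, hβ⟩ := exists_common_bundle p F W hstep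
  have hsect : ∀ i, ∃ s : Γ(RefHull.homSh ((Scheme.Modules.pullback p).obj E) F, W i),
      ∀ y : W i, Function.Surjective (s.1 y) := fun i => by
    obtain ⟨β, hb⟩ := hβ i
    exact exists_sect (W i) β
  choose s hs using hsect
  let A := (Scheme.Modules.pullback p).obj E
  have hH : Coh.IsQCoh (RefHull.homSh A F) :=
    RefX.isQCoh_homSh (isFP_of_isFinLocFree (KFlatLib.isFinLocFree_pullback p hE)) hF
  obtain ⟨B, j, -, hB, hBt, hsB⟩ := exists_ft_containing (isQCoh_pushforward q hH)
    (fun i : t => i.1.1) (fun i => i.1.2)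
    (fun i : t => (show Γ((Scheme.Modules.pushforward q).obj (RefHull.homSh A F), i.1.1) from s i))
  obtain ⟨G, π, hG, hπ⟩ := hY B hB hBt
  haveI := hπ
  let φ := ((Scheme.Modules.pullbackPushforwardAdjunction q).homEquiv G _).symm (π ≫ j)
  refine ⟨E, G, hE, hG, H23.TensorDesc.desc (pairing φ), HomShX.epi_of_stalk _ fun z => ?_⟩
  obtain ⟨V, hV, hzV⟩ := Set.mem_iUnion₂.1 (ht (Set.mem_univ (q z)))
  let i : t := ⟨V, hV⟩
  obtain ⟨w, hw⟩ := hsB i
  obtain ⟨e, he⟩ := app_surjective_of_epi (isQCoh_of_isFinLocFree hG) hB π i.1.2 w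
  refine surjective_stalk_pairing φ (s i) (pullSec q G (le_refl _) e) ?_ ⟨z, hzV⟩ (hs i _)
  rw [ResPropLib.homEquiv_symm_app_pullSec]
  show j.app i.1.1 (π.app i.1.1 e) = _
  rw [he, hw]

end Groth.Agent.BoxSurj
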